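import Groth.Agent.GIT36.FreeTorsor.Descent
import Groth.Agent.GIT36.FinAction.Scheme
import Groth.Agent.GIT36.AffQuot.AffQ
import Groth.Prelude.Def_GLinSh
import Mathlib.Algebra.Category.Ring.Epi
import Mathlib.AlgebraicGeometry.Morphisms.Flat

/-!
An affine quotient with trivial stabilisers is flat with cartesian action square.
-/

set_option autoImplicit false
set_option backward.isDefEq.respectTransparency.types false
set_option linter.style.haveILetI false
set_option linter.unusedSectionVars false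

universe u

open CategoryTheory CategoryTheory.Limits MonoidalCategory CartesianMonoidalCategory MonObj GrpObj AlgebraicGeometry
  Opposite WithConv
open scoped TensorProduct
open Groth.Agent.GIT36.Mu Groth.Agent.FinSub96

noncomputable section

namespace Groth.Agent.GIT36.FreeTorsor

variable {k : Type u} [Field k] {G X Y : Over (St k)} [GrpObj G]

/-- trivial stabilisers at a point -/
theorem eq_one_of_fix (a : AlgGrp.Action G X) {P T : Over (St k)} (x : P ⟶ X) (hx : IsIso (GLinSh.stabTo a x))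
    (π : T ⟶ P) (g : T ⟶ G) (hg : lift g (π ≫ x) ≫ a.act = π ≫ x) : g = 1 := by
  have key : ∀ h : T ⟶ G, lift h (π ≫ x) ≫ a.act = π ≫ x →
      (lift h π).left ≫ (GIT.psi a x).left = π.left ≫ (lift x (𝟙 P)).left := by
    intro h hh
    rw [← Over.comp_left, ← Over.comp_left, GIT.psi, comp_lift, comp_lift, lift_whiskerLeft_assoc, hh, lift_snd,
      Category.comp_id]
  have h1 := key g hg
  have h2 := key 1 (AlgGrp.Action.lift_one_act a _)
  have e : pullback.lift (lift g π).left π.left h1 = pullback.lift (lift (1 : T ⟶ G) π).left π.left h2 := by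
    haveI := hx
    refine (cancel_mono (GLinSh.stabTo a x)).1 ?_
    exact (pullback.lift_snd _ _ _).trans (pullback.lift_snd _ _ _).symm
  have e2 := congrArg (fun w => w ≫ pullback.fst _ _) e
  simp only [pullback.lift_fst] at e2
  have e3 := congrArg (fun w => w ≫ fst G P) (Over.OverMorphism.ext e2)
  simpa using e3

variable [IsAlgClosed k] [IsAffine X.left] [IsAffine Y.left]
  {A : Type u} [CommRing A] [HopfAlgebra k A] [Algebra.FiniteType k A] [_root_.IsReduced A]
  (ψ : GMod80.sp k A ≅ G) [IsMonHom ψ.hom]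
  (a : AlgGrp.Action G X) [Algebra.FiniteType k Γ(X.left, ⊤)]

include ψ in
/-- trivial stabilisers: the orbit maps are closed immersions -/
theorem orbitHom_surjective (hLR : HopfRep.IsLinearlyReductive k A)
    (hfix : ∀ (P : Over (St k)) (_ : P.left ≅ St k) (x : P ⟶ X), IsIso (GLinSh.stabTo a x))
    (x : Γ(X.left, ⊤) →ₐ[k] k) :
    letI := AffQuot.comod ψ a
    haveI := AffQuot.isCoactAlg ψ a
    Function.Surjective (GLin.orbitHom k A x) := by
  letI := AffQuot.comod ψ a
  haveI := AffQuot.isCoactAlg ψ a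
  have hst : ∀ y : Γ(X.left, ⊤) →ₐ[k] k, GLin.HasFiniteStab k A y := fun y =>
    (Proj.hasFiniteStab_iff_pts ψ a y).2 ((Set.finite_singleton (1 : Pt k ⟶ G)).subset fun g hg =>
      eq_one_of_fix a (Proj.zpt y) (hfix _ (Iso.refl _) _) (𝟙 _) g (by rw [Category.id_comp]; exact hg))
  have hfin : (GLin.orbitHom k A x).toRingHom.Finite := by
    let θ : A ⊗[k] Γ(X.left, ⊤) →ₐ[k] A :=
      (Algebra.TensorProduct.rid k k A).toAlgHom.comp (Algebra.TensorProduct.map (AlgHom.id k A) x)
    let θ' : Γ(X.left, ⊤) ⊗[k] Γ(X.left, ⊤) →ₐ[k] Γ(X.left, ⊤) :=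
      (Algebra.TensorProduct.rid k k Γ(X.left, ⊤)).toAlgHom.comp (Algebra.TensorProduct.map (AlgHom.id k Γ(X.left, ⊤)) x)
    have hθ : θ.comp (FinAction.orbitFn k A Γ(X.left, ⊤)) = (GLin.orbitHom k A x).comp θ' := by
      apply Algebra.TensorProduct.ext <;> ext r
      · show θ (FinAction.orbitFn k A Γ(X.left, ⊤) (r ⊗ₜ[k] 1)) = GLin.orbitHom k A x (θ' (r ⊗ₜ[k] 1))
        rw [show θ' (r ⊗ₜ[k] 1) = r by simp [θ']]
        simp only [FinAction.orbitFn, Algebra.TensorProduct.lift_tmul, map_one, _root_.mul_one]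
        show θ (Algebra.TensorProduct.comm k Γ(X.left, ⊤) A (HopfRep.Comod.coact (k := k) (A := A) r)) =
          (Algebra.TensorProduct.lid k A) (Algebra.TensorProduct.map x (AlgHom.id k A)
            (HopfRep.Comod.coact (k := k) (A := A) r))
        generalize HopfRep.Comod.coact (k := k) (A := A) r = z
        induction z with
        | zero => simp
        | add p q hp hq => simp only [map_add, hp, hq]
        | tmul p q => simp [θ]
      · show θ (FinAction.orbitFn k A Γ(X.left, ⊤) (1 ⊗ₜ[k] r)) = GLin.orbitHom k A x (θ' (1 ⊗ₜ[k] r))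
        rw [show θ' (1 ⊗ₜ[k] r) = algebraMap k _ (x r) by simp [θ', Algebra.algebraMap_eq_smul_one], AlgHom.commutes]
        simp [θ, FinAction.orbitFn, Algebra.algebraMap_eq_smul_one]
    have h1 : (θ.comp (FinAction.orbitFn k A Γ(X.left, ⊤))).toRingHom.Finite :=
      RingHom.Finite.comp (RingHom.Finite.of_surjective _ fun q => ⟨q ⊗ₜ[k] 1, by simp [θ]⟩)
        (FinAction.finite_orbitFn hLR hst)
    rw [hθ] at h1
    exact RingHom.Finite.of_comp_finite h1
  let q : CommRingCat.of Γ(X.left, ⊤) ⟶ CommRingCat.of A := CommRingCat.ofHom (GLin.orbitHom k A x).toRingHom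
  haveI : Epi q := ⟨fun {T} g₁ g₂ hg => by
    letI : Algebra k T := (g₁.hom.comp (algebraMap k A)).toAlgebra
    have hcomm : ∀ c : k, g₂.hom (algebraMap k A c) = algebraMap k T c := fun c => by
      rw [← (GLin.orbitHom k A x).commutes c]
      exact (congr($(hg).hom (algebraMap k _ c))).symm.trans (congrArg g₁.hom ((GLin.orbitHom k A x).commutes c))
    let f₁ : A →ₐ[k] T := { g₁.hom with commutes' := fun _ => rfl }
    let f₂ : A →ₐ[k] T := { g₂.hom with commutes' := hcomm }
    let xT : Γ(X.left, ⊤) →ₐ[k] T := (Algebra.ofId k T).comp x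
    have hact : ∀ f : A →ₐ[k] T, AffQuot.act' ψ a (toConv f) xT = AffQuot.xe (f.comp (GLin.orbitHom k A x)) := by
      intro f
      rw [AffQuot.act'_eq]
      refine congrArg AffQuot.xe (AlgHom.ext fun r => ?_)
      show _ = f ((Algebra.TensorProduct.lid k A) (Algebra.TensorProduct.map x (AlgHom.id k A)
        (AffQuot.coact ψ a r)))
      rw [AlgHom.comp_apply]
      generalize AffQuot.coact ψ a r = z
      induction z with
      | zero => simp
      | add p q hp hq => simp only [map_add, hp, hq]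
      | tmul p q => simp [xT, Algebra.smul_def, Algebra.ofId_apply]
    have h12 : AffQuot.act' ψ a (toConv f₁) xT = AffQuot.act' ψ a (toConv f₂) xT := by
      rw [hact, hact]
      exact congrArg AffQuot.xe (AlgHom.ext fun r => congr($(hg).hom r))
    let π : VecGrp.pt k T ⟶ VecGrp.pt k k := VecGrp.ptMap (Algebra.ofId k T)
    let u₁ := GMod80.e ψ T (toConv f₁)
    let u₂ := GMod80.e ψ T (toConv f₂)
    have hπ : π ≫ AffQuot.xe x = AffQuot.xe xT := AffQuot.xe_natural _ _
    have hfx : lift (u₂ * u₁⁻¹) (π ≫ AffQuot.xe x) ≫ a.act = π ≫ AffQuot.xe x := by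
      rw [hπ, AlgGrp.Action.lift_mul_act]
      show lift u₂ (AffQuot.act' ψ a (toConv f₁) xT) ≫ a.act = _
      rw [h12, AffQuot.act', ← AlgGrp.Action.lift_mul_act, mul_inv_cancel, AlgGrp.Action.lift_one_act]
    have h := eq_one_of_fix a (AffQuot.xe x) (hfix _ (Iso.refl _) _) π _ hfx
    have h' : toConv f₂ = toConv f₁ := (GMod80.e ψ T).injective (mul_inv_eq_one.1 h)
    refine CommRingCat.hom_ext (RingHom.ext fun r => ?_)
    exact (congrArg (fun F : WithConv (A →ₐ[k] T) => F.ofConv r) h').symm⟩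
  exact (RingHom.surjective_iff_epi_and_finite (f := q)).2 ⟨inferInstance, (hfin : q.hom.Finite)⟩

variable {a} {φ : X ⟶ Y}

include ψ in
/-- the affine quotient by a free action is a flat torsor -/
theorem flat_and_isPullback (hLR : HopfRep.IsLinearlyReductive k A) (h : AffQuot.AffQ a φ)
    (hfree : letI := AffQuot.comod ψ a
      haveI := AffQuot.isCoactAlg ψ a
      ∀ x : Γ(X.left, ⊤) →ₐ[k] k, Function.Surjective (GLin.orbitHom k A x)) :
    Flat φ.left ∧ IsPullback a.act.left (snd G X).left φ.left φ.left := by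
  letI := AffQuot.comod ψ a
  haveI := AffQuot.isCoactAlg ψ a
  obtain ⟨hflat, hbij⟩ := flat_and_bijective (A := A) (R := Γ(X.left, ⊤)) hLR hfree
  let I := GLin.invariants k A Γ(X.left, ⊤)
  have hmem : ∀ r : Γ(X.left, ⊤), r ∈ I ↔ ∃ s, φ.left.appTop s = r := by
    intro r
    refine (AffQuot.inv_iff ψ a r).symm.trans ?_
    exact (Set.ext_iff.1 h.range r).symm
  let θ : Γ(Y.left, ⊤) →+* I := φ.left.appTop.hom.codRestrict I.toSubring fun s => (hmem _).2 ⟨s, rfl⟩
  have hθ : Function.Bijective θ :=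
    ⟨fun s t e => h.injective (congrArg Subtype.val e), fun r => by
      obtain ⟨s, hs⟩ := (hmem r).1 r.2
      exact ⟨s, Subtype.ext hs⟩⟩
  let eθ : CommRingCat.of Γ(Y.left, ⊤) ≅ CommRingCat.of I := (RingEquiv.ofBijective θ hθ).toCommRingCatIso
  have hfac : eθ.hom ≫ CommRingCat.ofHom (algebraMap I Γ(X.left, ⊤)) = φ.left.appTop := rfl
  refine ⟨?_, ?_⟩
  · rw [HasRingHomProperty.iff_of_isAffine (P := @Flat)]
    have : φ.left.appTop.hom = (algebraMap I Γ(X.left, ⊤)).comp θ := rfl
    rw [this]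
    exact RingHom.Flat.comp (RingHom.Flat.of_bijective hθ) ((RingHom.flat_algebraMap_iff).2 hflat)
  · let c : Γ(X.left, ⊤) ⊗[I] Γ(X.left, ⊤) →+* Γ(X.left, ⊤) ⊗[k] A :=
      (Algebra.TensorProduct.comm k A Γ(X.left, ⊤)).toRingEquiv.toRingHom.comp (canMap k A Γ(X.left, ⊤))
    have hc : Function.Bijective c :=
      (Algebra.TensorProduct.comm k A Γ(X.left, ⊤)).bijective.comp hbij
    have hc1 : ∀ r, c (r ⊗ₜ 1) = AffQuot.coact ψ a r := fun r => by
      simp only [c, RingHom.comp_apply]
      rw [show canMap k A _ (r ⊗ₜ[I] (1 : Γ(X.left, ⊤))) = _ from canMap_tmul r 1, show (1 : A) ⊗ₜ[k] (1 : Γ(X.left, ⊤)) = 1 from rfl, _root_.mul_one]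
      exact (Algebra.TensorProduct.comm k A Γ(X.left, ⊤)).apply_symm_apply _
    have hc2 : ∀ r, c (1 ⊗ₜ r) = r ⊗ₜ[k] (1 : A) := fun r => by
      simp only [c, RingHom.comp_apply]
      rw [show canMap k A _ ((1 : Γ(X.left, ⊤)) ⊗ₜ[I] r) = _ from canMap_tmul 1 r, map_one, _root_.one_mul]
      simp
    have hpo : IsPushout φ.left.appTop φ.left.appTop (CommRingCat.ofHom (AffQuot.coact ψ a).toRingHom)
        (CommRingCat.ofHom (Algebra.TensorProduct.includeLeft : Γ(X.left, ⊤) →ₐ[k] Γ(X.left, ⊤) ⊗[k] A).toRingHom) :=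
      (CommRingCat.isPushout_tensorProduct I Γ(X.left, ⊤) Γ(X.left, ⊤)).of_iso eθ.symm (Iso.refl _) (Iso.refl _)
        (RingEquiv.ofBijective c hc).toCommRingCatIso
        (by rw [Iso.symm_hom, ← hfac, Iso.inv_hom_id_assoc]; rfl)
        (by rw [Iso.symm_hom, ← hfac, Iso.inv_hom_id_assoc]; rfl)
        (CommRingCat.hom_ext (RingHom.ext fun r => hc1 r)) (CommRingCat.hom_ext (RingHom.ext fun r => hc2 r))
    haveI := FinAction.isIso_pairMap (X := X) ψ
    refine (isPullback_SpecMap_of_isPushout _ _ _ _ hpo).of_iso (asIso (FinAction.pairMap (X := X) ψ).left)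
      X.left.isoSpec.symm X.left.isoSpec.symm Y.left.isoSpec.symm ?_ ?_ ?_ ?_
    · rw [asIso_hom, ← Over.comp_left, show FinAction.pairMap ψ ≫ a.act = AffQuot.xe (AffQuot.coact ψ a) from
        (AffQuot.xe_coact ψ a).symm]
      rfl
    · rw [asIso_hom, ← Over.comp_left, FinAction.pairMap, lift_snd]
      rfl
    · exact Scheme.isoSpec_inv_naturality φ.left
    · exact Scheme.isoSpec_inv_naturality φ.left

end Groth.Agent.GIT36.FreeTorsor
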