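import Groth.Agent.GIT36.FreeTorsor.Twist
import Mathlib.RingTheory.Flat.EquationalCriterion

/-!
A free action of a linearly reductive group on an affine scheme is a torsor over the quotient.
-/

set_option autoImplicit false
set_option linter.style.haveILetI false
set_option linter.unusedSectionVars false

universe u

open TensorProduct HopfRep

noncomputable section

namespace Groth.Agent.GIT36.FreeTorsor

open FinAction

variable {k : Type u} [Field k] {A : Type u} [CommRing A] [HopfAlgebra k A]
  {R : Type u} [CommRing R] [Algebra k R] [Comod k A R] [GLin.IsCoactAlg k A R]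

theorem actFn_invariant {r : R} (hr : r ∈ GLin.invariants k A R) : actFn k A R r = (1 : A) ⊗ₜ[k] r := by
  show Algebra.TensorProduct.comm k R A (Comod.coact (k := k) (A := A) r) = _
  rw [show Comod.coact (k := k) (A := A) r = r ⊗ₜ[k] (1 : A) from hr, Algebra.TensorProduct.comm_tmul]

variable (k A R) in
/-- the canonical map of a torsor -/
def canMap : R ⊗[GLin.invariants k A R] R →+* A ⊗[k] R :=
  letI : Algebra (GLin.invariants k A R) (A ⊗[k] R) :=
    ((Algebra.TensorProduct.includeRight (R := k) (A := A) (B := R)).comp (GLin.invariants k A R).val).toRingHom.toAlgebra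
  (Algebra.TensorProduct.lift (R := GLin.invariants k A R) (S := GLin.invariants k A R)
    { (actFn k A R).toRingHom with commutes' := fun s => actFn_invariant s.2 }
    { (Algebra.TensorProduct.includeRight (R := k) (A := A) (B := R)).toRingHom with commutes' := fun _ => rfl }
    (fun _ _ => Commute.all _ _)).toRingHom

theorem canMap_tmul (x y : R) : canMap k A R (x ⊗ₜ y) = actFn k A R x * ((1 : A) ⊗ₜ[k] y) := rfl

attribute [local instance] actModule transComod

variable [IsAlgClosed k] [Algebra.FiniteType k R]

/-- the pieces descend -/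
theorem piece_descent (hLR : IsLinearlyReductive k A)
    (hfree : ∀ x : R →ₐ[k] k, Function.Surjective (GLin.orbitHom k A x))
    (V : Submodule k A) [Module.Finite k V] (hV : IsSubcomod (k := k) (A := A) V) :
    ∃ (L : Submodule (GLin.invariants k A R) R), Module.Projective (GLin.invariants k A R) L ∧
      (∀ y : R, y ∈ L ↔ (1 : A) ⊗ₜ[k] y ∈ piece k R V) ∧
      (∀ c ∈ piece k R V, ∃ z : R ⊗[GLin.invariants k A R] L,
        canMap k A R (L.subtype.lTensor R z) = c) ∧
      (∀ z : R ⊗[GLin.invariants k A R] L, canMap k A R (L.subtype.lTensor R z) = 0 → z = 0) := by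
  obtain ⟨hfreeN, hfinN⟩ := free_piece (R := R) V
  haveI := hfreeN
  haveI := hfinN
  haveI : IsNoetherianRing R := Algebra.FiniteType.isNoetherianRing k R
  letI := ComodSub.Comod.restr (transComod k A R) ((piece k R V).restrictScalars k) (isSubcomod_piece hV)
  letI : Comod k A (piece k R V) := ‹Comod k A ((piece k R V).restrictScalars k)›
  have hsub : Hoch.IsComodHom A ((piece k R V).subtype.restrictScalars k) :=
    LinRed34.isComodHom_subtype_toSub ((piece k R V).restrictScalars k) (isSubcomod_piece hV)
  haveI : TameAct.IsHopfMod k A R (piece k R V) := ⟨fun b m => by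
    apply Module.Flat.rTensor_preserves_injective_linearMap (M := A) ((piece k R V).subtype.restrictScalars k)
      Subtype.val_injective
    have h1 := LinearMap.congr_fun hsub (b • m)
    have h2 := LinearMap.congr_fun hsub m
    simp only [LinearMap.comp_apply, LinearMap.restrictScalars_apply, Submodule.subtype_apply,
      Submodule.coe_smul] at h1 h2
    rw [← h1, (isHopfMod (k := k) (A := A) (R := R)).coact_smul b (m : A ⊗[k] R), h2]
    generalize Comod.coact (k := k) (A := A) b = z
    generalize Comod.coact (k := k) (A := A) m = w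
    induction z with
    | zero => simp
    | add p q hp hq => simp only [map_add, LinearMap.add_apply, hp, hq]
    | tmul p c =>
      induction w with
      | zero => simp
      | add p q hp hq => simp only [map_add, hp, hq]
      | tmul n d => simp⟩
  have hfix : ∀ m : LinRed34.fixedInv k A R (piece k R V), ∃ y : R, (m.1 : A ⊗[k] R) = (1 : A) ⊗ₜ[k] y :=
    fun m => exists_of_invariant (LinRed34.map_mem_fixedPts hsub m.2)
  choose y hy using hfix
  have hinj1 : Function.Injective fun t : R => (1 : A) ⊗ₜ[k] t := fun s t h => by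
    have h' := congrArg (fun c => TensorProduct.lid k R ((CoalgebraStruct.counit (R := k) (A := A)).rTensor R c)) h
    simpa using h'
  have hsmul1 : ∀ (s : GLin.invariants k A R) (t : R), (s : R) • ((1 : A) ⊗ₜ[k] t) = (1 : A) ⊗ₜ[k] ((s : R) * t) :=
    fun s t => by rw [smul_eq, actFn_invariant s.2, Algebra.TensorProduct.tmul_mul_tmul, one_mul]
  let e : LinRed34.fixedInv k A R (piece k R V) →ₗ[GLin.invariants k A R] R :=
    { toFun := y
      map_add' := fun m n => hinj1 (by
        simp only [TensorProduct.tmul_add]
        rw [← hy, ← hy, ← hy]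
        rfl)
      map_smul' := fun s m => hinj1 (by
        show (1 : A) ⊗ₜ[k] _ = (1 : A) ⊗ₜ[k] ((s : R) * y m)
        rw [← hsmul1, ← hy, ← hy]
        rfl) }
  have he : Function.Injective e := fun m n h => Subtype.ext (Subtype.ext (by
    rw [hy, hy]
    exact congrArg ((1 : A) ⊗ₜ[k] ·) h))
  let eL := LinearEquiv.ofInjective e he
  have hspan : Submodule.span R (fixedPts k A (piece k R V) : Set (piece k R V)) = ⊤ :=
    LinRed34.span_fixedPts_eq_top hLR hfree
  obtain ⟨n, v, c, hc, hsum⟩ := LinRed34.exists_invariant_frame (M := piece k R V) hLR hspan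
  obtain ⟨-, hproj, hbij⟩ := LinRed34.descent_of_frame v c hc hsum
  haveI := hproj
  have key : ∀ w, ((TensorProduct.lift
        (((Algebra.lsmul (GLin.invariants k A R) (GLin.invariants k A R) (piece k R V) :
          R →ₐ[GLin.invariants k A R] Module.End (GLin.invariants k A R) (piece k R V)).toLinearMap).compl₂
            (LinRed34.fixedInv k A R (piece k R V)).subtype) w : piece k R V) : A ⊗[k] R) =
      canMap k A R ((LinearMap.range e).subtype.lTensor R (eL.toLinearMap.lTensor R w)) := by
    intro w
    induction w with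
    | zero => simp
    | add p q hp hq => simp only [map_add, Submodule.coe_add, hp, hq]
    | tmul r m =>
      simp only [TensorProduct.lift.tmul, LinearMap.compl₂_apply, Submodule.subtype_apply,
        AlgHom.toLinearMap_apply, Algebra.lsmul_coe, Submodule.coe_smul, LinearMap.lTensor_tmul, canMap_tmul]
      rw [smul_eq, hy]
      rfl
  have heL : ∀ z, eL.toLinearMap.lTensor R (eL.symm.toLinearMap.lTensor R z) = z := fun z => by
    rw [← LinearMap.comp_apply, ← LinearMap.lTensor_comp]
    simp
  refine ⟨LinearMap.range e, Module.Projective.of_equiv eL, fun t => ⟨?_, fun ht => ?_⟩, fun c hc => ?_, fun z hz => ?_⟩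
  · rintro ⟨m, rfl⟩
    show (1 : A) ⊗ₜ[k] y m ∈ _
    rw [← hy]
    exact m.1.2
  · have hm : (⟨(1 : A) ⊗ₜ[k] t, ht⟩ : piece k R V) ∈ LinRed34.fixedInv k A R (piece k R V) := by
      rw [LinRed34.mem_fixedInv]
      apply Module.Flat.rTensor_preserves_injective_linearMap (M := A) ((piece k R V).subtype.restrictScalars k)
        Subtype.val_injective
      exact (LinearMap.congr_fun hsub _).symm.trans (transCoact_includeRight t)
    exact ⟨⟨_, hm⟩, hinj1 (hy ⟨_, hm⟩).symm⟩
  · obtain ⟨w, hw⟩ := hbij.2 ⟨c, hc⟩
    exact ⟨_, (key w).symm.trans (congrArg Subtype.val hw)⟩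
  · rw [← heL z, ← key] at hz
    rw [← heL z, hbij.1 ((Subtype.ext hz).trans (map_zero _).symm), map_zero]

/-- **free actions give torsors**: the invariant functions have a flat extension with bijective canonical map -/
theorem flat_and_bijective (hLR : IsLinearlyReductive k A)
    (hfree : ∀ x : R →ₐ[k] k, Function.Surjective (GLin.orbitHom k A x)) :
    Module.Flat (GLin.invariants k A R) R ∧ Function.Bijective (canMap k A R) := by
  classical
  refine ⟨Module.Flat.of_forall_isTrivialRelation fun {l f x} hfx => ?_, ?_, fun c => ?_⟩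
  · obtain ⟨V, hV, hsub, hmem⟩ := exists_piece (k := k) (A := A) (R := R) fun i => (1 : A) ⊗ₜ[k] x i
    obtain ⟨L, hproj, hL, -, -⟩ := piece_descent hLR hfree V hsub
    haveI := hproj
    let x' : Fin l → L := fun i => ⟨x i, (hL _).2 (hmem i)⟩
    obtain ⟨m, a, y, hy, ha⟩ := Module.Flat.isTrivialRelation_of_sum_smul_eq_zero (f := f) (x := x')
      (Subtype.ext (by simpa [x'] using hfx))
    exact ⟨m, a, fun j => (y j : R), fun i => (congrArg Subtype.val (hy i)).trans (by simp), ha⟩
  · rw [injective_iff_map_eq_zero]
    intro z hz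
    obtain ⟨s, hs⟩ := TensorProduct.exists_finset z
    obtain ⟨V, hV, hsub, hmem⟩ := exists_piece (k := k) (A := A) (R := R) fun p : s => (1 : A) ⊗ₜ[k] p.1.2
    obtain ⟨L, -, hL, -, hinj⟩ := piece_descent hLR hfree V hsub
    have e : L.subtype.lTensor R (∑ p : s, p.1.1 ⊗ₜ ⟨p.1.2, (hL _).2 (hmem p)⟩) = z := by
      rw [map_sum, hs, ← Finset.sum_coe_sort s]
      simp
    rw [← e] at hz ⊢
    rw [hinj _ hz, map_zero]
  · obtain ⟨V, hV, hsub, hmem⟩ := exists_piece (k := k) (A := A) (R := R) fun _ : Fin 1 => c
    obtain ⟨L, -, -, hsurj, -⟩ := piece_descent hLR hfree V hsub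
    exact (hsurj c (hmem 0)).elim fun z hz => ⟨_, hz⟩

end Groth.Agent.GIT36.FreeTorsor
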