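import Groth.Agent.GIT36.FreeTorsor.Affine
import Groth.Agent.GIT36.AffQuot.Main
import Groth.Agent.GIT36.AffQuot.Global
import Groth.Agent.GIT36.Proj.OrbitSurj
import Groth.Prelude.Def_NonAbH2

/-!
An affine geometric quotient is a torsor exactly when the stabilisers are trivial.
-/

set_option autoImplicit false
set_option backward.isDefEq.respectTransparency.types false
set_option linter.style.haveILetI false
set_option linter.unusedSectionVars false

universe u

open CategoryTheory CategoryTheory.Limits MonoidalCategory CartesianMonoidalCategory MonObj GrpObj AlgebraicGeometry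
  TopologicalSpace
open Groth.Agent.GIT36.Mu Groth.Agent.H98EqInt Groth.Agent.GIT36.AffQuot Groth.Agent.FinSub96

noncomputable section

namespace Groth.Agent.GIT36.FreeTorsor

section Free

variable {S : Scheme.{u}} {G X Y : Over S} [GrpObj G] (a : AlgGrp.Action G X) {φ : X ⟶ Y}

/-- torsors have trivial stabilisers -/
theorem isIso_stabTo (hcart : IsPullback a.act (snd G X) φ φ) {P : Over S} (x : P ⟶ X) :
    IsIso (GLinSh.stabTo a x) := by
  have hc : IsPullback a.act.left (snd G X).left φ.left φ.left := hcart.map (Over.forget S)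
  let s : P.left ⟶ (G ⊗ P).left := (lift (1 : P ⟶ G) (𝟙 P)).left
  have hψ : GIT.psi a x = lift ((G ◁ x) ≫ a.act) (snd G P) := rfl
  have hfst : ∀ {T : Scheme.{u}} (q : T ⟶ (G ⊗ P).left),
      (q ≫ (GIT.psi a x).left) ≫ (fst X P).left = q ≫ (G ◁ x).left ≫ a.act.left := fun q => by
    rw [Category.assoc, ← Over.comp_left, hψ, lift_fst, Over.comp_left]
  have hsnd : ∀ {T : Scheme.{u}} (q : T ⟶ (G ⊗ P).left),
      (q ≫ (GIT.psi a x).left) ≫ (snd X P).left = q ≫ (snd G P).left := fun q => by
    rw [Category.assoc, ← Over.comp_left, hψ, lift_snd]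
  have hw : s ≫ (GIT.psi a x).left = 𝟙 _ ≫ (lift x (𝟙 P)).left := by
    rw [Category.id_comp, ← Over.comp_left, hψ, comp_lift, lift_whiskerLeft_assoc, Category.id_comp,
      AlgGrp.Action.lift_one_act, lift_snd]
  refine ⟨⟨pullback.lift s (𝟙 _) hw, ?_, pullback.lift_snd _ _ _⟩⟩
  let q := pullback.fst (GIT.psi a x).left (lift x (𝟙 P)).left
  let t : pullback (GIT.psi a x).left (lift x (𝟙 P)).left ⟶ P.left := pullback.snd _ _
  have hcond : q ≫ (GIT.psi a x).left = t ≫ (lift x (𝟙 P)).left := pullback.condition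
  apply pullback.hom_ext
  · refine (Category.assoc _ _ _).trans ((congrArg (t ≫ ·) (pullback.lift_fst _ _ _)).trans (Eq.trans ?_ (Category.id_comp q).symm))
    show t ≫ s = q
    have h1 : q ≫ (snd G P).left = t := by
      rw [← hsnd q, hcond, Category.assoc, ← Over.comp_left, lift_snd, Over.id_left, Category.comp_id]
    have h2 : q ≫ (G ◁ x).left ≫ a.act.left = t ≫ x.left := by
      rw [← hfst q, hcond, Category.assoc, ← Over.comp_left, lift_fst]
    have hs1 : s ≫ (snd G P).left = 𝟙 _ := by rw [← Over.comp_left, lift_snd]; rfl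
    have hs2 : s ≫ (G ◁ x).left ≫ a.act.left = x.left := by
      rw [← Over.comp_left, ← Over.comp_left, lift_whiskerLeft_assoc, Category.id_comp, AlgGrp.Action.lift_one_act]
    apply (Quot.isPullback_whiskerLeft_left G x).hom_ext
    · apply hc.hom_ext
      · simp only [Category.assoc]; rw [hs2, h2]
      · have hx : (G ◁ x).left ≫ (snd G X).left = (snd G P).left ≫ x.left := by
          rw [← Over.comp_left, ← Over.comp_left, whiskerLeft_snd]
        simp only [Category.assoc]
        rw [hx, reassoc_of% hs1, reassoc_of% h1]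
    · rw [Category.assoc, hs1, Category.comp_id, h1]
  · exact (Category.assoc _ _ _).trans ((congrArg (t ≫ ·) (pullback.lift_snd _ _ _)).trans
      ((Category.comp_id t).trans (Category.id_comp t).symm))

end Free

/-- trivial fibres are detected after a monomorphism -/
theorem isIso_snd_of_mono {A B C D : Scheme.{u}} (f : A ⟶ C) (g : B ⟶ C) (m : C ⟶ D) [Mono m]
    {f' : A ⟶ D} {g' : B ⟶ D} (hf : f ≫ m = f') (hg : g ≫ m = g') (h : IsIso (pullback.snd f' g')) :
    IsIso (pullback.snd f g) := by
  subst hf hg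
  have hw : inv (pullback.snd (f ≫ m) (g ≫ m)) ≫ pullback.fst _ _ ≫ f = 𝟙 B ≫ g := by
    rw [Category.id_comp, ← cancel_mono m, Category.assoc, Category.assoc, pullback.condition,
      IsIso.inv_hom_id_assoc]
  let u : pullback f g ⟶ pullback (f ≫ m) (g ≫ m) :=
    pullback.lift (pullback.fst _ _) (pullback.snd _ _) (by rw [pullback.condition_assoc])
  have hu : pullback.snd f g ≫ inv (pullback.snd (f ≫ m) (g ≫ m)) = u := by
    rw [IsIso.comp_inv_eq, pullback.lift_snd]
  refine ⟨⟨pullback.lift (inv (pullback.snd (f ≫ m) (g ≫ m)) ≫ pullback.fst _ _) (𝟙 B)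
    (by rw [Category.assoc]; exact hw), ?_, pullback.lift_snd _ _ _⟩⟩
  apply pullback.hom_ext
  · rw [Category.assoc, pullback.lift_fst, reassoc_of% hu, pullback.lift_fst, Category.id_comp]
  · rw [Category.assoc, pullback.lift_snd, Category.comp_id, Category.id_comp]

section Torsor

variable {k : Type u} [Field k] [IsAlgClosed k] [CharZero k] {G X Y : Over (St k)} [GrpObj G]
  [LocallyOfFiniteType X.hom] {a : AlgGrp.Action G X} {φ : X ⟶ Y}

/-- affine geometric quotients by free actions are flat torsors -/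
theorem flat_and_cart (hG : Red.IsReductiveOver k G) (hq : GIT.IsGeomQuot a φ) [IsAffineHom φ.left]
    (hfix : ∀ (P : Over (St k)) (_ : P.left ≅ St k) (x : P ⟶ X), IsIso (GLinSh.stabTo a x)) :
    Flat φ.left ∧ IsPullback a.act.left (snd G X).left φ.left φ.left := by
  haveI := hG.1
  haveI := hG.2.1
  obtain ⟨A, _, _, ψ, hψ⟩ := GMod80.exists_coord G
  haveI := hψ
  haveI : Algebra.FiniteType k A := GMod80.finiteType ψ
  have hLR : HopfRep.IsLinearlyReductive k A := LinRedChar0.isLinearlyReductive_of_isReductiveOver ψ hG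
  haveI : _root_.IsReduced A := GMod80.isReduced ψ
  have piece : ∀ V : Y.left.Opens, IsAffineOpen V →
      Flat (φ.left ∣_ V) ∧ IsPullback (actV φ hq.inv V).act.left (snd G (totV φ V)).left
        (φ.left ∣_ V) (φ.left ∣_ V) := by
    intro V hV
    haveI : IsAffine (totV φ V).left := hV.preimage φ.left
    haveI : IsAffine (baseV V).left := hV
    haveI : LocallyOfFiniteType (totV φ V).hom := inferInstanceAs (LocallyOfFiniteType ((φ.left ⁻¹ᵁ V).ι ≫ X.hom))
    haveI : Algebra.FiniteType k Γ((totV φ V).left, ⊤) := Proj.finiteType_affine (totV φ V)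
    have hAQ : AffQ (actV φ hq.inv V) (phiV φ V) := by
      refine ⟨bcAction_invariant hq.inv _, fun t₁ t₂ ht => ?_, Set.Subset.antisymm ?_ fun r hr => ?_⟩
      · obtain ⟨t₁, rfl⟩ := (ConcreteCategory.bijective_of_isIso V.topIso.inv).2 t₁
        obtain ⟨t₂, rfl⟩ := (ConcreteCategory.bijective_of_isIso V.topIso.inv).2 t₂
        rw [appTop_phiV, appTop_phiV] at ht
        rw [(hq.sections V).1 ((ConcreteCategory.bijective_of_isIso (φ.left ⁻¹ᵁ V).topIso.inv).1 ht)]
      · rintro _ ⟨t, rfl⟩
        exact inv_appTop (bcAction_invariant hq.inv _) t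
      · obtain ⟨s, rfl⟩ := (ConcreteCategory.bijective_of_isIso (φ.left ⁻¹ᵁ V).topIso.inv).2 r
        have hs : s ∈ Set.range (φ.left.app V) := by
          rw [(hq.sections V).2]
          exact (inv_piece_iff φ hq.inv V s).1 hr
        obtain ⟨t, rfl⟩ := hs
        exact ⟨V.topIso.inv t, appTop_phiV φ V t⟩
    have hfixV : ∀ (P : Over (St k)) (_ : P.left ≅ St k) (x : P ⟶ totV φ V),
        IsIso (GLinSh.stabTo (actV φ hq.inv V) x) := by
      intro P eP x
      let j := prV φ V
      haveI : IsOpenImmersion j.left := inferInstanceAs (IsOpenImmersion (φ.left ⁻¹ᵁ V).ι)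
      haveI : Mono j.left := inferInstance
      have hj : (GIT.psi (actV φ hq.inv V) x) ≫ (j ▷ P) = GIT.psi a (x ≫ j) := by
        apply CartesianMonoidalCategory.hom_ext
        · simp only [GIT.psi, Category.assoc, whiskerRight_fst, lift_fst, lift_fst_assoc]
          rw [bcAction_act_fst, whiskerLeft_comp_assoc]
        · simp only [GIT.psi, Category.assoc, whiskerRight_snd, lift_snd]
      have hl : lift x (𝟙 P) ≫ (j ▷ P) = lift (x ≫ j) (𝟙 P) := by
        rw [lift_whiskerRight]
      haveI : IsOpenImmersion (j ▷ P).left :=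
        MorphismProperty.of_isPullback (P := @IsOpenImmersion) (Quot.isPullback_whiskerRight_left P j).flip
          inferInstance
      exact isIso_snd_of_mono _ _ (j ▷ P).left (by rw [← Over.comp_left, hj]) (by rw [← Over.comp_left, hl])
        (hfix P eP (x ≫ j))
    exact flat_and_isPullback ψ hLR hAQ fun x => orbitHom_surjective ψ (actV φ hq.inv V) hLR hfixV x
  refine ⟨?_, ?_⟩
  · rw [IsZariskiLocalAtTarget.iff_of_iSup_eq_top (P := @Flat) (fun V : Y.left.affineOpens => V.1)
      (iSup_affineOpens_eq_top _)]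
    exact fun V => (piece V.1 V.2).1
  · have hiso : IsIso (GIT.PsiY a φ hq.inv) := by
      let Z := pullback φ.left φ.left
      let W : Y.left.affineOpens → Z.Opens := fun V => (pullback.snd φ.left φ.left) ⁻¹ᵁ (φ.left ⁻¹ᵁ V.1)
      have hW : iSup W = ⊤ := by
        simp only [W, ← Scheme.Hom.preimage_iSup, iSup_affineOpens_eq_top, Scheme.Hom.preimage_top]
      show MorphismProperty.isomorphisms Scheme (GIT.PsiY a φ hq.inv)
      rw [IsZariskiLocalAtTarget.iff_of_iSup_eq_top (P := MorphismProperty.isomorphisms Scheme) W hW]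
      intro V
      have hV := (piece V.1 V.2).2
      let j := prV φ V.1
      let U := φ.left ⁻¹ᵁ V.1
      let Ψ := GIT.PsiY a φ hq.inv
      have hfst : ((G ◁ j).left ≫ Ψ) ≫ pullback.fst φ.left φ.left = (actV φ hq.inv V.1).act.left ≫ U.ι := by
        rw [Category.assoc, show Ψ ≫ pullback.fst φ.left φ.left = a.act.left from pullback.lift_fst _ _ _,
          ← Over.comp_left, ← bcAction_act_fst hq.inv (isPullback_piece φ V.1), Over.comp_left]
        rfl
      have hsnd : Ψ ≫ pullback.snd φ.left φ.left = (snd G X).left := pullback.lift_snd _ _ _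
      have hs : IsPullback (((G ◁ j).left ≫ Ψ) ≫ pullback.fst φ.left φ.left) (snd G (totV φ V.1)).left
          φ.left (U.ι ≫ φ.left) := by
        rw [hfst, ← morphismRestrict_ι]
        exact hV.paste_horiz (isPullback_morphismRestrict φ.left V.1).flip
      have hrest : IsPullback ((G ◁ j).left ≫ Ψ) (snd G (totV φ V.1)).left (pullback.snd φ.left φ.left) U.ι := by
        refine IsPullback.of_right hs ?_ (IsPullback.of_hasPullback φ.left φ.left)
        rw [Category.assoc, hsnd, ← Over.comp_left, whiskerLeft_snd, Over.comp_left]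
        rfl
      have hsq : IsPullback (G ◁ j).left (snd G (totV φ V.1)).left (snd G X).left U.ι :=
        Quot.isPullback_whiskerLeft_left G j
      have hres : IsPullback (pullback.snd φ.left φ.left ∣_ U) (W V).ι U.ι (pullback.snd φ.left φ.left) :=
        isPullback_morphismRestrict (pullback.snd φ.left φ.left) U
      have hm : IsPullback (Ψ ∣_ W V) (Ψ ⁻¹ᵁ W V).ι (W V).ι Ψ := isPullback_morphismRestrict Ψ (W V)
      have hm' : IsPullback ((Ψ ∣_ W V) ≫ (pullback.snd φ.left φ.left ∣_ U)) (Ψ ⁻¹ᵁ W V).ι U.ι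
          (Ψ ≫ pullback.snd φ.left φ.left) := hm.paste_horiz hres
      rw [hsnd] at hm'
      let e₁ := hrest.isoIsPullback _ _ hres.flip
      let e₂ := hsq.isoIsPullback _ _ hm'.flip
      have he : e₂.hom ≫ (Ψ ∣_ W V) = e₁.hom := by
        rw [← cancel_mono (W V).ι, Category.assoc, morphismRestrict_ι, ← Category.assoc,
          IsPullback.isoIsPullback_hom_fst, IsPullback.isoIsPullback_hom_fst]
      show IsIso (Ψ ∣_ W V)
      rw [← Iso.inv_hom_id_assoc e₂ (Ψ ∣_ W V), he]
      infer_instance
    haveI := hiso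
    exact IsPullback.of_iso_pullback ⟨hq.inv.left⟩ (asIso (GIT.PsiY a φ hq.inv)) (pullback.lift_fst _ _ _)
      (pullback.lift_snd _ _ _)

end Torsor

end Groth.Agent.GIT36.FreeTorsor
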