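import Groth.Agent.GIT36.FinAction.Algebra
import Groth.Agent.LinRed34.FreeOrbit
import Groth.Agent.Comod33.Act

/-!
The functions on `G × X` as a Hopf module over the functions on `X` along the action map.
-/

set_option autoImplicit false
set_option linter.style.haveILetI false
set_option linter.unusedSectionVars false

universe u

open TensorProduct HopfRep

noncomputable section

namespace Groth.Agent.GIT36.FreeTorsor

open FinAction

variable {k : Type u} [Field k] {A : Type u} [CommRing A] [HopfAlgebra k A]
  {R : Type u} [CommRing R] [Algebra k R] [Comod k A R] [GLin.IsCoactAlg k A R]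

variable (k A R) in
/-- the inverse twist -/
def untwist : A ⊗[k] R →ₐ[k] R ⊗[k] A :=
  Algebra.TensorProduct.lift Algebra.TensorProduct.includeRight
    ((Algebra.TensorProduct.map (AlgHom.id k R) (HopfAlgebra.antipodeAlgHom k A)).comp (GLin.coactAlgHom k A R))
    (fun _ _ => Commute.all _ _)

theorem coassoc_apply (r : R) :
    TensorProduct.assoc k R A A ((Comod.coact (k := k) (A := A) (V := R)).rTensor A (Comod.coact r)) =
      (CoalgebraStruct.comul (R := k) (A := A)).lTensor R (Comod.coact r) := by
  have h := LinearMap.congr_fun (Comod.coassoc (k := k) (A := A) (V := R)) r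
  simpa using h

theorem counit_apply (r : R) :
    (CoalgebraStruct.counit (R := k) (A := A)).lTensor R (Comod.coact r) = r ⊗ₜ[k] (1 : k) := by
  have h := LinearMap.congr_fun (Comod.counit_comp (k := k) (A := A) (V := R)) r
  simpa using h

theorem untwist_actFn (r : R) : untwist k A R (actFn k A R r) = r ⊗ₜ[k] (1 : A) := by
  let W : R ⊗[k] (A ⊗[k] A) →ₗ[k] R ⊗[k] A :=
    ((LinearMap.mul' k A).comp ((HopfAlgebra.antipode k).rTensor A)).lTensor R
  show untwist k A R (Algebra.TensorProduct.comm k R A (Comod.coact (k := k) (A := A) r)) = _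
  have L : ∀ z : R ⊗[k] A, untwist k A R (Algebra.TensorProduct.comm k R A z) =
      W (TensorProduct.assoc k R A A ((Comod.coact (k := k) (A := A) (V := R)).rTensor A z)) := by
    intro z
    induction z with
    | zero => simp
    | add p q hp hq => simp only [map_add, hp, hq]
    | tmul p q =>
      simp only [Algebra.TensorProduct.comm_tmul, untwist, Algebra.TensorProduct.lift_tmul,
        Algebra.TensorProduct.includeRight_apply, AlgHom.comp_apply, LinearMap.rTensor_tmul]
      show _ = W (TensorProduct.assoc k R A A (GLin.coactAlgHom k A R p ⊗ₜ[k] q))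
      generalize GLin.coactAlgHom k A R p = w
      induction w with
      | zero => simp
      | add x y hx hy => simp only [map_add, mul_add, add_tmul, hx, hy]
      | tmul x y => simp [W, mul_comm]
  rw [L, coassoc_apply]
  have h2 : ∀ z : R ⊗[k] A, W ((CoalgebraStruct.comul (R := k) (A := A)).lTensor R z) =
      (Algebra.linearMap k A).lTensor R ((CoalgebraStruct.counit (R := k) (A := A)).lTensor R z) := by
    intro z
    induction z with
    | zero => simp
    | add p q hp hq => simp only [map_add, hp, hq]
    | tmul p q =>
      simp only [W, LinearMap.lTensor_tmul, LinearMap.comp_apply]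
      rw [HopfAlgebra.mul_antipode_rTensor_comul_apply]
      rfl
  rw [h2, counit_apply]
  simp

theorem untwist_mul (r : R) (a : A) : untwist k A R (actFn k A R r * (a ⊗ₜ[k] (1 : R))) = r ⊗ₜ[k] a := by
  rw [map_mul, untwist_actFn]
  simp [untwist, GLin.IsCoactAlg.coact_one]

variable (k A R) in
/-- the twist -/
def twist : R ⊗[k] A →ₐ[k] A ⊗[k] R :=
  Algebra.TensorProduct.lift (actFn k A R) Algebra.TensorProduct.includeLeft (fun _ _ => Commute.all _ _)

theorem twist_tmul (r : R) (a : A) : twist k A R (r ⊗ₜ[k] a) = actFn k A R r * (a ⊗ₜ[k] (1 : R)) := by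
  simp [twist]

theorem twist_untwist (c : A ⊗[k] R) : twist k A R (untwist k A R c) = c := by
  suffices h : (twist k A R).comp (untwist k A R) = AlgHom.id k _ from DFunLike.congr_fun h c
  apply Algebra.TensorProduct.ext
  · ext a
    simp [untwist, twist, GLin.IsCoactAlg.coact_one]
  · refine AlgHom.ext fun s => ?_
    let W : R ⊗[k] (A ⊗[k] A) →ₗ[k] A ⊗[k] R :=
      ((TensorProduct.comm k R A).toLinearMap).comp
        (((LinearMap.mul' k A).comp ((HopfAlgebra.antipode k).lTensor A)).lTensor R)
    simp only [AlgHom.comp_apply, AlgHom.restrictScalars_apply, Algebra.TensorProduct.includeRight_apply,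
      AlgHom.id_apply, untwist, Algebra.TensorProduct.lift_tmul, map_one, one_mul, GLin.coactAlgHom]
    show twist k A R (Algebra.TensorProduct.map (AlgHom.id k R) (HopfAlgebra.antipodeAlgHom k A)
      (Comod.coact (k := k) (A := A) s)) = _
    have L : ∀ z : R ⊗[k] A, twist k A R (Algebra.TensorProduct.map (AlgHom.id k R) (HopfAlgebra.antipodeAlgHom k A) z) =
        W (TensorProduct.assoc k R A A ((Comod.coact (k := k) (A := A) (V := R)).rTensor A z)) := by
      intro z
      induction z with
      | zero => simp
      | add p q hp hq => simp only [map_add, hp, hq]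
      | tmul p q =>
        rw [Algebra.TensorProduct.map_tmul, AlgHom.id_apply, twist_tmul, LinearMap.rTensor_tmul]
        show Algebra.TensorProduct.comm k R A (Comod.coact (k := k) (A := A) p) * _ = _
        generalize Comod.coact (k := k) (A := A) p = w
        induction w with
        | zero => simp
        | add x y hx hy => simp only [map_add, add_mul, add_tmul, hx, hy]
        | tmul x y => simp [W]
    rw [L, coassoc_apply]
    have h2 : ∀ z : R ⊗[k] A, W ((CoalgebraStruct.comul (R := k) (A := A)).lTensor R z) =
        (TensorProduct.comm k R A) ((Algebra.linearMap k A).lTensor R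
          ((CoalgebraStruct.counit (R := k) (A := A)).lTensor R z)) := by
      intro z
      induction z with
      | zero => simp
      | add p q hp hq => simp only [map_add, hp, hq]
      | tmul p q =>
        simp only [W, LinearMap.lTensor_tmul, LinearMap.comp_apply, LinearEquiv.coe_coe]
        rw [HopfAlgebra.mul_antipode_lTensor_comul_apply]
        rfl
    rw [h2, counit_apply]
    simp

variable (k A R) in
/-- functions on `G × X` over functions on `X`, along the action -/
@[reducible] def actModule : Module R (A ⊗[k] R) := Module.compHom (A ⊗[k] R) (actFn k A R).toRingHom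

attribute [local instance] actModule transComod

theorem smul_eq (r : R) (c : A ⊗[k] R) : r • c = actFn k A R r * c := rfl

instance : IsScalarTower k R (A ⊗[k] R) := ⟨fun s r c => by rw [smul_eq, smul_eq, map_smul, smul_mul_assoc]⟩

theorem coact_smul' (r : R) (c : A ⊗[k] R) :
    transCoact k A R (r • c) = TameAct.hmSMul k A R (A ⊗[k] R) (Comod.coact r) (transCoact k A R c) := by
  rw [smul_eq, map_mul, transCoact_actFn]
  generalize Comod.coact (k := k) (A := A) r = z
  generalize transCoact k A R c = w
  induction z with
  | zero => simp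
  | add p q hp hq => simp only [map_add, add_mul, LinearMap.add_apply, hp, hq]
  | tmul p a =>
    induction w with
    | zero => simp
    | add x y hx hy => simp only [map_add, mul_add, hx, hy]
    | tmul x b => rw [TameAct.hmSMul_tmul, Algebra.TensorProduct.map_tmul, smul_eq]; simp

theorem isHopfMod : TameAct.IsHopfMod k A R (A ⊗[k] R) := ⟨coact_smul'⟩

variable (k R) in
/-- the span of a space of functions on the group -/
def piece (V : Submodule k A) : Submodule R (A ⊗[k] R) :=
  Submodule.span R ((fun a : A => a ⊗ₜ[k] (1 : R)) '' V)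

theorem isSubcomod_piece {V : Submodule k A} (hV : IsSubcomod (k := k) (A := A) V) :
    IsSubcomod (k := k) (A := A) ((piece k R V).restrictScalars k) := by
  intro c hc
  change c ∈ piece k R V at hc
  induction hc using Submodule.span_induction with
  | zero => exact ⟨0, by simp⟩
  | add x y _ _ hx hy => rw [map_add]; exact Submodule.add_mem _ hx hy
  | mem x hx =>
    obtain ⟨v, hv, rfl⟩ := hx
    obtain ⟨y, hy⟩ := hV v hv
    show transCoact k A R (v ⊗ₜ 1) ∈ _
    rw [transCoact_tmul, show CoalgebraStruct.comul (R := k) v = V.subtype.rTensor A y from hy.symm]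
    clear hy
    induction y with
    | zero => simp
    | add p q hp hq => rw [map_add, map_add]; exact Submodule.add_mem _ hp hq
    | tmul p q =>
      exact ⟨(⟨(p : A) ⊗ₜ[k] (1 : R), Submodule.subset_span ⟨p, p.2, rfl⟩⟩ :
        (piece k R V).restrictScalars k) ⊗ₜ[k] q, rfl⟩
  | smul r x _ hx =>
    obtain ⟨y, hy⟩ := hx
    show transCoact k A R (r • x) ∈ _
    rw [coact_smul', show transCoact k A R x = _ from hy.symm]
    clear hy
    generalize Comod.coact (k := k) (A := A) r = z
    induction z with
    | zero => simp
    | add p q hp hq => rw [map_add, LinearMap.add_apply]; exact Submodule.add_mem _ hp hq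
    | tmul p a =>
      induction y with
      | zero => simp
      | add x y hx hy => rw [map_add, map_add]; exact Submodule.add_mem _ hx hy
      | tmul x b =>
        exact ⟨(⟨p • (x : A ⊗[k] R), (piece k R V).smul_mem p x.2⟩ : (piece k R V).restrictScalars k) ⊗ₜ[k] (a * b),
          by simp⟩

/-- the pieces are free -/
theorem free_piece (V : Submodule k A) [Module.Finite k V] :
    Module.Free R (piece k R V) ∧ Module.Finite R (piece k R V) := by
  let b := Module.finBasis k V
  let v : Fin (Module.finrank k V) → A ⊗[k] R := fun i => (b i : A) ⊗ₜ[k] (1 : R)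
  have hli : LinearIndependent R v := by
    rw [Fintype.linearIndependent_iff]
    intro g hg i
    have h := congrArg (untwist k A R) hg
    simp only [v, map_sum, smul_eq, untwist_mul, map_zero] at h
    have hd : ∃ f : A →ₗ[k] k, ∀ j, f (b j : A) = if j = i then 1 else 0 := by
      obtain ⟨f, hf⟩ := LinearMap.exists_extend (b.coord i)
      refine ⟨f, fun j => (LinearMap.congr_fun hf (b j)).trans ?_⟩
      simp [Finsupp.single_apply]
    obtain ⟨f, hf⟩ := hd
    have h2 := congrArg (fun z => TensorProduct.rid k R (f.lTensor R z)) h
    simpa [map_sum, hf] using h2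
  have hsp : piece k R V = Submodule.span R (Set.range v) := by
    refine le_antisymm (Submodule.span_le.2 ?_) (Submodule.span_mono ?_)
    · rintro _ ⟨a, ha, rfl⟩
      show a ⊗ₜ[k] (1 : R) ∈ Submodule.span R (Set.range v)
      rw [show a = ((⟨a, ha⟩ : V) : A) from rfl, ← b.sum_repr ⟨a, ha⟩, AddSubmonoidClass.coe_finsetSum,
        TensorProduct.sum_tmul]
      refine Submodule.sum_mem _ fun i _ => ?_
      rw [Submodule.coe_smul, ← TensorProduct.smul_tmul', ← one_smul R ((b i : A) ⊗ₜ[k] (1 : R)), ← smul_assoc]
      exact Submodule.smul_mem _ _ (Submodule.subset_span ⟨i, rfl⟩)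
    · rintro _ ⟨i, rfl⟩
      exact ⟨b i, (b i).2, rfl⟩
  let e := (Module.Basis.span hli).map (LinearEquiv.ofEq _ _ hsp.symm)
  exact ⟨Module.Free.of_basis e, Module.Finite.of_basis e⟩

/-- every function lies in a piece -/
theorem exists_piece {ι : Type*} [Finite ι] (c : ι → A ⊗[k] R) :
    ∃ V : Submodule k A, Module.Finite k V ∧ IsSubcomod (k := k) (A := A) V ∧ ∀ i, c i ∈ piece k R V := by
  have hfin : ∀ z : R ⊗[k] A, ∃ s : Finset A, twist k A R z ∈ Submodule.span R ((fun a : A => a ⊗ₜ[k] (1 : R)) '' s) := by
    classical
    intro z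
    induction z with
    | zero => exact ⟨∅, by rw [map_zero]; exact Submodule.zero_mem _⟩
    | tmul r a =>
      refine ⟨{a}, ?_⟩
      rw [twist_tmul, ← smul_eq]
      exact Submodule.smul_mem _ _ (Submodule.subset_span ⟨a, by simp, rfl⟩)
    | add p q hp hq =>
      obtain ⟨s, hs⟩ := hp
      obtain ⟨t, ht⟩ := hq
      refine ⟨s ∪ t, ?_⟩
      rw [map_add]
      exact Submodule.add_mem _ (Submodule.span_mono (Set.image_mono (by simp)) hs)
        (Submodule.span_mono (Set.image_mono (by simp)) ht)
  choose s hs using fun i => hfin (untwist k A R (c i))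
  obtain ⟨V, hV, hsub, hsV, -⟩ := Hopf34.exists_finite_isSubcomod (k := k) (A := A) (V := A)
    (⋃ i, (s i : Set A)) (Set.finite_iUnion fun i => (s i).finite_toSet)
  refine ⟨V, hV, hsub, fun i => ?_⟩
  have h := hs i
  rw [twist_untwist] at h
  exact Submodule.span_mono (Set.image_mono ((Set.subset_iUnion (fun i => (s i : Set A)) i).trans hsV)) h

end Groth.Agent.GIT36.FreeTorsor
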